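import Groth.Agent.MorLib.GeomFibre
import Groth.Agent.GrpSchLib.FieldDim
import Mathlib

/-! Fibres of the base change to an algebraic closure, over closed points. -/

set_option autoImplicit false
universe u

open AlgebraicGeometry CategoryTheory Limits
open Groth.Agent.MorLib

namespace Groth.Agent.H23.BarFibre

variable {k : Type u} [Field k] {X : Scheme.{u}} (sX : X ⟶ Spec (CommRingCat.of k))
  [LocallyOfFiniteType sX]

/-- `Spec k̄ → Spec k`. -/
noncomputable abbrev bar (k : Type u) [Field k] :
    Spec (CommRingCat.of (AlgebraicClosure k)) ⟶ Spec (CommRingCat.of k) :=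
  Spec.map (CommRingCat.ofHom (algebraMap k (AlgebraicClosure k)))

instance : IsIntegralHom (bar k) := by
  rw [IsIntegralHom.SpecMap_iff]
  exact (Algebra.isIntegral_def.mp (inferInstance : Algebra.IsIntegral k (AlgebraicClosure k)))

/-- The `k̄`-points over a point. -/
abbrev Pts (x : X) : Type u :=
  {δ : Spec (CommRingCat.of (AlgebraicClosure k)) ⟶ X // δ ≫ sX = bar k ∧ GF.pt δ = x}

theorem fibre_closed (x : X) (hx : IsClosed ({x} : Set X))
    (z : ↥(pullback sX (bar k))) (hz : (pullback.fst sX (bar k)).base z = x) :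
    IsClosed ({z} : Set ↥(pullback sX (bar k))) := by
  refine closure_subset_iff_isClosed.mp fun z' hz' => ?_
  have hs : z ⤳ z' := specializes_iff_mem_closure.mpr hz'
  have h2 : (pullback.fst sX (bar k)).base z' = x := by
    have h := hs.map (pullback.fst sX (bar k)).continuous
    rw [hz] at h
    exact Set.mem_singleton_iff.mp (hx.closure_eq ▸ h.mem_closure :)
  exact Set.mem_singleton_iff.mpr
    (Groth.Agent.GrpSchLib.eq_of_specializes_of_isIntegralHom (pullback.fst sX (bar k)) hs
      (hz.trans h2.symm)).symm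

theorem fibre_equiv (x : X) (hx : IsClosed ({x} : Set X)) :
    Nonempty (↥((pullback.fst sX (bar k)).base ⁻¹' {x}) ≃ Pts sX x) := by
  let F : Pts sX x → ↥((pullback.fst sX (bar k)).base ⁻¹' {x}) := fun δ =>
    ⟨GF.pt (pullback.lift (f := sX) (g := bar k) δ.1 (𝟙 _) (by rw [δ.2.1, Category.id_comp])), by
      show (pullback.fst sX (bar k)).base _ = x
      rw [← GF.pt_comp, pullback.lift_fst, δ.2.2]⟩
  refine ⟨(Equiv.ofBijective F ⟨fun δ δ' h => Subtype.ext ?_, fun z => ?_⟩).symm⟩
  · have h' := ext_of_apply_closedPoint_eq (pullback.snd sX (bar k)) (pullback.lift_snd _ _ _)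
      (pullback.lift_snd _ _ _) (congrArg Subtype.val h :)
    have h'' := congrArg (fun a => a ≫ pullback.fst sX (bar k)) h'
    rwa [pullback.lift_fst, pullback.lift_fst] at h''
  · obtain ⟨⟨p, hp⟩, hpz⟩ := (pointEquivClosedPoint (pullback.snd sX (bar k))).surjective
      ⟨z.1, fibre_closed sX x hx z.1 z.2⟩
    have hpz' : GF.pt p = z.1 := congrArg Subtype.val hpz
    refine ⟨⟨p ≫ pullback.fst sX (bar k), ?_, ?_⟩, Subtype.ext ?_⟩
    · rw [Category.assoc, pullback.condition, reassoc_of% hp]
    · rw [GF.pt_comp, hpz']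
      exact z.2
    · show GF.pt (pullback.lift _ _ _) = z.1
      refine (congrArg GF.pt ?_).trans hpz'
      apply pullback.hom_ext
      · rw [pullback.lift_fst]
      · rw [pullback.lift_snd, hp]

theorem finite_comp (x : X) (hx : IsClosed ({x} : Set X)) :
    IsFinite (X.fromSpecResidueField x ≫ sX) := by
  rw [isClosed_singleton_iff_isClosedImmersion] at hx
  rw [isFinite_iff_locallyOfFiniteType_of_jacobsonSpace]
  infer_instance

include sX in
theorem perfect_residueField [PerfectField k] (x : X) (hx : IsClosed ({x} : Set X)) :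
    PerfectField (X.residueField x) := by
  have := finite_comp sX x hx
  let g := Spec.preimage (X.fromSpecResidueField x ≫ sX)
  have hg : g.hom.IsIntegral := by
    rw [← IsIntegralHom.SpecMap_iff, Spec.map_preimage]
    infer_instance
  let _ : Algebra k (X.residueField x) := g.hom.toAlgebra
  have : Algebra.IsIntegral k (X.residueField x) := ⟨hg⟩
  exact Algebra.IsAlgebraic.perfectField (K := k)

set_option backward.isDefEq.respectTransparency.types false in
theorem pts_finite (x : X) (hx : IsClosed ({x} : Set X)) :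
    Finite (Pts sX x) ∧ 0 < Nat.card (Pts sX x) := by
  have := finite_comp sX x hx
  let c := X.fromSpecResidueField x
  let u : Spec (X.residueField x) := IsLocalRing.closedPoint (X.residueField x)
  have hu : (c ≫ sX).base u = GF.pt (bar k) := Subsingleton.elim _ _
  obtain ⟨hfin, hcard⟩ := GF.lifts_at (c ≫ sX) (bar k) u hu
  let F : {δ : Spec (CommRingCat.of (AlgebraicClosure k)) ⟶ Spec (X.residueField x) //
      δ ≫ c ≫ sX = bar k ∧ GF.pt δ = u} → Pts sX x := fun δ =>
    ⟨δ.1 ≫ c, by rw [Category.assoc, δ.2.1], by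
      rw [GF.pt_comp]
      exact Scheme.fromSpecResidueField_apply _ _⟩
  have hF : Function.Bijective F := by
    refine ⟨fun δ δ' h => Subtype.ext ((cancel_mono c).mp (congrArg Subtype.val h :)), ?_⟩
    rintro ⟨δ, hδ, hδx⟩
    let ψ := (X.residueFieldCongr hδx.symm).hom ≫
      X.descResidueField (Scheme.stalkClosedPointTo δ)
    have hψ : Spec.map ψ ≫ c = δ := by
      rw [Spec.map_comp, Category.assoc, Scheme.residueFieldCongr_fromSpecResidueField,
        Scheme.descResidueField_stalkClosedPointTo_fromSpecResidueField]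
    exact ⟨⟨Spec.map ψ, by rw [reassoc_of% hψ, hδ], Subsingleton.elim _ _⟩, Subtype.ext hψ⟩
  refine ⟨Finite.of_surjective F hF.2, ?_⟩
  rw [← Nat.card_eq_of_bijective F hF, hcard]
  let _ := ((c ≫ sX).residueFieldMap u).hom.toAlgebra
  have : Module.Finite _ ((Spec (X.residueField x)).residueField u) :=
    GF.finite_residueFieldMap (c ≫ sX) u
  exact Nat.pos_of_ne_zero (NeZero.ne _)

variable {Y : Scheme.{u}} (sY : Y ⟶ Spec (CommRingCat.of k)) [LocallyOfFiniteType sY]

theorem pts_mul (φ : X ⟶ Y) (hφ : φ ≫ sY = sX) [IsFinite φ] (x : X) (hx : IsClosed ({x} : Set X)) :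
    Nat.card (Pts sX x) =
      (letI := (φ.residueFieldMap x).hom.toAlgebra
       Field.finSepDegree (Y.residueField (φ.base x)) (X.residueField x)) *
        Nat.card (Pts sY (φ.base x)) := by
  have hy : IsClosed ({φ.base x} : Set Y) := by
    simpa using φ.isClosedMap _ hx
  have := (pts_finite sY (φ.base x) hy).1
  let e : Pts sX x ≃ Σ δY : Pts sY (φ.base x),
      {δ : Spec (CommRingCat.of (AlgebraicClosure k)) ⟶ X // δ ≫ φ = δY.1 ∧ GF.pt δ = x} :=
    { toFun := fun δ => ⟨⟨δ.1 ≫ φ, by rw [Category.assoc, hφ, δ.2.1], by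
        rw [GF.pt_comp, δ.2.2]⟩, δ.1, rfl, δ.2.2⟩
      invFun := fun p => ⟨p.2.1, by rw [← hφ, ← Category.assoc, p.2.2.1, p.1.2.1], p.2.2.2⟩
      left_inv := fun δ => rfl
      right_inv := by
        rintro ⟨⟨δY, h1, h2⟩, ⟨δ, h3, h4⟩⟩
        change δ ≫ φ = δY at h3
        cases h3
        rfl }
  have hl := fun δY : Pts sY (φ.base x) => GF.lifts_at φ δY.1 x δY.2.2.symm
  have := fun δY => (hl δY).1
  have := Fintype.ofFinite (Pts sY (φ.base x))
  rw [Nat.card_congr e, Nat.card_sigma, Finset.sum_congr rfl fun δY _ => (hl δY).2,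
    Finset.sum_const, Finset.card_univ, Nat.card_eq_fintype_card, smul_eq_mul, mul_comm]

theorem encard_fibre (x : X) (hx : IsClosed ({x} : Set X)) :
    ((pullback.fst sX (bar k)).base ⁻¹' {x}).encard = Nat.card (Pts sX x) := by
  obtain ⟨e⟩ := fibre_equiv sX x hx
  have := (pts_finite sX x hx).1
  have hfin : ((pullback.fst sX (bar k)).base ⁻¹' {x}).Finite := Finite.of_equiv _ e.symm
  rw [← hfin.cast_ncard_eq, ← Nat.card_coe_set_eq, Nat.card_congr e]

end Groth.Agent.H23.BarFibre
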